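import Groth.Agent.Ega4fib.H172.FibDimConstr

/-!
# Fibre equidimensional at a point: translation into local fibre dimensions

For `f` locally of finite type, all irreducible components of the fibre through `x` which contain `x`
have the dimension `e` iff all the maximal points `z` of the fibre which specialize to `x` have
`rtd f z = e`, iff `fibreDimAt f x = e` and `e ≤ fibreDimAt f z` for all generizations `z` of `x` in the
fibre.
-/

set_option autoImplicit false

universe u

namespace Groth.Agent.Ega4fib.H169.EquidimAtPoints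

open AlgebraicGeometry CategoryTheory CategoryTheory.Limits Topology
open Groth.Agent.CycB.RelDim Groth.Agent.VarietyA.LocDim
open Groth.Agent.Ega4fib.H172.FibDimBC Groth.Agent.Ega4fib.H172.FibDimConstr

variable {X S : Scheme.{u}}

theorem f_fiberι (f : X ⟶ S) (s : S) (w : f.fiber s) : f (f.fiberι s w) = s := by
  have : f.fiberι s w ∈ Set.range (f.fiberι s) := ⟨w, rfl⟩
  rw [Scheme.Hom.range_fiberι] at this
  exact this

/-- All the components of the fibre through `x` have dimension `e`, in terms of maximal points. -/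
theorem forall_irreducibleComponents_iff (f : X ⟶ S) [LocallyOfFiniteType f] (x : X) (e : ℕ) :
    (∀ Z ∈ irreducibleComponents (↥(f.fiber (f.base x)) : Type u), f.asFiber x ∈ Z →
        topologicalKrullDim (↥Z : Type u) = e) ↔
      ∀ z : X, z ⤳ x → f z = f x → FibGeneric f z → rtd f z = e := by
  constructor
  · intro h z hz hfz hgz
    have hz' : z ∈ Set.range (f.fiberι (f x)) := by
      rw [Scheme.Hom.range_fiberι]
      exact hfz
    obtain ⟨w, rfl⟩ := hz'
    have hsp : w ⤳ f.asFiber x := by
      refine (f.fiberι (f x)).isEmbedding.isInducing.specializes_iff.mp ?_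
      rw [Scheme.Hom.fiberι_asFiber]
      exact hz
    have hcl : closure {w} ∈ irreducibleComponents (↥(f.fiber (f.base x)) : Type u) := by
      obtain ⟨T, hT, hle⟩ := exists_mem_irreducibleComponents_subset_of_isIrreducible
        ({w} : Set (f.fiber (f x))) isIrreducible_singleton
      obtain ⟨z', rfl, hz'⟩ := exists_fibGeneric_of_mem hT
      have h1 : z' ⤳ w := specializes_iff_mem_closure.mpr (hle rfl)
      have h2 : f.fiberι (f x) z' ⤳ f.fiberι (f x) w := h1.map (f.fiberι (f x)).continuous
      have h3 := hgz _ (by rw [f_fiberι, f_fiberι]) h2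
      have h4 := (f.fiberι (f x)).isEmbedding.injective h3
      rw [← h4]
      exact hT
    have h1 := h _ hcl (specializes_iff_mem_closure.mp hsp)
    obtain ⟨n, hn, hn'⟩ := exists_dim_closure_fiber f (f x) w
    rw [hn]
    have h2 : ((n : ℕ) : WithBot ℕ∞) = e := hn'.symm.trans h1
    exact_mod_cast h2
  · intro h Z hZ hxZ
    obtain ⟨w, rfl, hw⟩ := exists_fibGeneric_of_mem hZ
    have hsp : w ⤳ f.asFiber x := specializes_iff_mem_closure.mpr hxZ
    have h1 : f.fiberι (f x) w ⤳ x := by
      have := hsp.map (f.fiberι (f x)).continuous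
      rwa [Scheme.Hom.fiberι_asFiber] at this
    have h2 := h _ h1 (f_fiberι f (f x) w) hw
    obtain ⟨n, hn, hn'⟩ := exists_dim_closure_fiber f (f x) w
    rw [hn] at h2
    have h3 : n = e := by exact_mod_cast h2
    rw [← h3]
    exact hn'

/-- All the components of the fibre through `x` have dimension `e`, in terms of local dimensions of
the fibres. -/
theorem forall_rtd_eq_iff (f : X ⟶ S) [LocallyOfFiniteType f] (x : X) (e : ℕ) :
    (∀ z : X, z ⤳ x → f z = f x → FibGeneric f z → rtd f z = e) ↔
      FlatMor.fibreDimAt f x = e ∧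
        ¬ ∃ z : X, FlatMor.fibreDimAt f z < e ∧ f z = f x ∧ z ⤳ x := by
  constructor
  · intro h
    refine ⟨?_, ?_⟩
    · obtain ⟨z, hz, hfz, hgz, n, hn, hn'⟩ := exists_fibGeneric_rtd_eq f x
      rw [hn']
      have h1 := h z hz hfz hgz
      rw [hn] at h1
      have h2 : n = e := by exact_mod_cast h1
      rw [h2]
    · rintro ⟨z, hlt, hfz, hz⟩
      obtain ⟨w, hw, hfw, hgw, n, hn, hn'⟩ := exists_fibGeneric_rtd_eq f z
      have h1 := h w (hw.trans hz) (hfw.trans hfz) hgw
      rw [hn'] at hlt
      rw [hn] at h1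
      have h2 : n = e := by exact_mod_cast h1
      have h3 : n < e := by exact_mod_cast hlt
      omega
  · rintro ⟨h1, h2⟩ z hz hfz hgz
    obtain ⟨w, hw, hfw, hgw, n, hn, hn'⟩ := exists_fibGeneric_rtd_eq f z
    have hwz : w = z := hgz w hfw hw
    subst hwz
    have h3 : FlatMor.fibreDimAt f w ≤ FlatMor.fibreDimAt f x :=
      fibreDimAt_le_of_specializes f hz hfz
    rw [h1, hn'] at h3
    have h4 : n ≤ e := by exact_mod_cast h3
    have h5 : ¬ n < e := by
      intro hlt
      refine h2 ⟨w, ?_, hfz, hz⟩
      rw [hn']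
      exact_mod_cast hlt
    have h6 : n = e := by omega
    rw [hn, h6]

/-- The set of the points at which the fibre is equidimensional. -/
theorem setOf_equidim_eq (f : X ⟶ S) [LocallyOfFiniteType f] :
    {x : X | ∃ e : ℕ,
      ∀ Z ∈ irreducibleComponents (↥(f.fiber (f.base x)) : Type u), f.asFiber x ∈ Z →
        topologicalKrullDim (↥Z : Type u) = e} =
      ⋃ e : ℕ, {x : X | FlatMor.fibreDimAt f x = e} ∩
        {x : X | ∃ z ∈ {z : X | FlatMor.fibreDimAt f z < e}, f z = f x ∧ z ⤳ x}ᶜ := by
  ext x
  simp only [Set.mem_ofPred_eq, Set.mem_iUnion]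
  refine exists_congr fun e => ?_
  rw [forall_irreducibleComponents_iff, forall_rtd_eq_iff]
  rfl

/-- A union of locally constructible sets inside the level sets of the local fibre dimension is
locally constructible. -/
theorem isLocallyConstructible_iUnion (f : X ⟶ S) [LocallyOfFiniteType f] {E : ℕ → Set X}
    (hE : ∀ n, IsLocallyConstructible (E n))
    (hle : ∀ n, ∀ x ∈ E n, FlatMor.fibreDimAt f x = n) :
    IsLocallyConstructible (⋃ n, E n) := by
  have hopen : ∀ n : ℕ, IsOpen {x : X | FlatMor.fibreDimAt f x ≤ n} :=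
    fun n => Groth.Agent.S0402.result f n
  refine .of_isOpenCover (U := fun n : ℕ => (⟨_, hopen n⟩ : X.Opens)) ?_ fun n => ?_
  · rw [TopologicalSpace.IsOpenCover, eq_top_iff]
    intro x _
    rw [TopologicalSpace.Opens.mem_iSup]
    obtain ⟨n, hn⟩ := Groth.Agent.Flat2D.FibDimNat.exists_nat_fibreDimAt f x
    exact ⟨n, hn.le⟩
  · have h1 : (Subtype.val ⁻¹' (⋃ m, E m) : Set {x : X | FlatMor.fibreDimAt f x ≤ n}) =
        Subtype.val ⁻¹' (⋃ m ∈ Set.Iic n, E m) := by
      ext ⟨x, hx⟩
      simp only [Set.mem_preimage, Set.mem_iUnion, Set.mem_Iic, exists_prop]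
      constructor
      · rintro ⟨m, hm⟩
        refine ⟨m, ?_, hm⟩
        have h2 := hle m x hm
        have h3 : FlatMor.fibreDimAt f x ≤ n := hx
        rw [h2] at h3
        exact_mod_cast h3
      · rintro ⟨m, -, hm⟩
        exact ⟨m, hm⟩
    change IsLocallyConstructible (Subtype.val ⁻¹' (⋃ m, E m) :
      Set {x : X | FlatMor.fibreDimAt f x ≤ n})
    rw [h1]
    exact (IsLocallyConstructible.biUnion (Set.finite_Iic n) fun m _ => hE m).preimage_of_isOpenEmbedding
      (hopen n).isOpenEmbedding_subtypeVal

/-- Glue: constructibility of the fibrewise closures gives the constructibility of the locus. -/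
theorem isLocallyConstructible_of_relClosure (f : X ⟶ S) [LocallyOfFinitePresentation f]
    (H : ∀ W : Set X, IsLocallyConstructible W →
      IsLocallyConstructible {x : X | ∃ z ∈ W, f z = f x ∧ z ⤳ x}) :
    IsLocallyConstructible {x : X | ∃ e : ℕ,
      ∀ Z ∈ irreducibleComponents (↥(f.fiber (f.base x)) : Type u), f.asFiber x ∈ Z →
        topologicalKrullDim (↥Z : Type u) = e} := by
  rw [setOf_equidim_eq]
  refine isLocallyConstructible_iUnion f (fun n => ?_) fun n x hx => hx.1
  exact (isLocallyConstructible_fibreDimAt_eq f n).inter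
    (isLocallyConstructible_compl (H _ (isLocallyConstructible_fibreDimAt_lt f n)))

end Groth.Agent.Ega4fib.H169.EquidimAtPoints
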